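import Groth.Statements.S18508
import Groth.Agent.Lib.Helper24.ActKer.Main14643

/-!
# The stabilizer group scheme `(G × X) ×_{X × X} X ⟶ X` is a group object over `X`
-/

set_option autoImplicit false
universe u
open CategoryTheory MonoidalCategory CartesianMonoidalCategory MonObj GrpObj AlgebraicGeometry Limits
  Opposite

namespace Groth.Agent.Lib.Helper24.Stab

open Groth.Agent.Lib.Helper4.ActShear Groth.Agent.Lib.Helper24.ActKer

variable {S : Scheme.{u}} {G X : Over S} [GrpObj G] (a : AlgGrp.Action G X)

/-- the graph morphism `(g, x) ↦ (g x, x)` -/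
noncomputable abbrev Psi : G ⊗ X ⟶ X ⊗ X := GIT.psi a (𝟙 X)

/-- the diagonal -/
noncomputable abbrev Dl (X : Over S) : X ⟶ X ⊗ X := lift (𝟙 X) (𝟙 X)

/-- the stabilizer scheme -/
noncomputable abbrev St : Scheme.{u} := pullback (Psi a).left (Dl X).left

/-- its projection to `X` -/
noncomputable abbrev pr : St a ⟶ X.left := pullback.snd (Psi a).left (Dl X).left

theorem Psi_fst : Psi a ≫ fst X X = a.act := by
  unfold Psi GIT.psi
  rw [lift_fst, MonoidalCategory.whiskerLeft_id, Category.id_comp]

theorem Psi_snd : Psi a ≫ snd X X = snd G X := by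
  unfold Psi GIT.psi
  rw [lift_snd]

theorem lift_Psi {T : Over S} (g : T ⟶ G) (y : T ⟶ X) :
    lift g y ≫ Psi a = lift (smul a g y) y := by
  apply CartesianMonoidalCategory.hom_ext
  · rw [Category.assoc, Psi_fst, lift_fst]; rfl
  · rw [Category.assoc, Psi_snd, lift_snd, lift_snd]

/-- `fst ≫ snd = pr` on the stabilizer -/
theorem fst_snd_eq_pr :
    pullback.fst (Psi a).left (Dl X).left ≫ (snd G X).left = pr a := by
  have h1 : (Psi a).left ≫ (snd X X).left = (snd G X).left := by
    rw [← Over.comp_left, Psi_snd]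
  have h2 : (Dl X).left ≫ (snd X X).left = 𝟙 _ := by
    rw [← Over.comp_left, lift_snd]; rfl
  rw [← h1, ← Category.assoc, pullback.condition, Category.assoc, h2, Category.comp_id]

section pts

variable {a}

/-- an object over `X` seen over `S` -/
noncomputable abbrev dn (T : Over X.left) : Over S := Over.mk (T.hom ≫ X.hom)

/-- the tautological point -/
noncomputable abbrev yT (T : Over X.left) : dn T ⟶ X := Over.homMk T.hom rfl

noncomputable abbrev dnMap {T₁ T₂ : Over X.left} (u : T₁ ⟶ T₂) : dn T₁ ⟶ dn T₂ :=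
  Over.homMk u.left (by
    change u.left ≫ T₂.hom ≫ X.hom = T₁.hom ≫ X.hom
    rw [← Category.assoc, Over.w u])

theorem dnMap_yT {T₁ T₂ : Over X.left} (u : T₁ ⟶ T₂) : dnMap u ≫ yT T₂ = yT T₁ := by
  apply Over.OverMorphism.ext
  exact Over.w u

theorem dnMap_id (T : Over X.left) : dnMap (𝟙 T) = 𝟙 (dn T) := by
  apply Over.OverMorphism.ext
  rfl

theorem dnMap_comp {T₁ T₂ T₃ : Over X.left} (u : T₁ ⟶ T₂) (v : T₂ ⟶ T₃) :
    dnMap (u ≫ v) = dnMap u ≫ dnMap v := by
  apply Over.OverMorphism.ext
  rfl

end pts

/-- the stabilizer subgroup of the tautological point -/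
noncomputable def StabSub (T : Over X.left) : Subgroup (dn T ⟶ G) where
  carrier := {g | smul a g (yT T) = yT T}
  mul_mem' := by
    intro g h hg hh
    change smul a (g * h) (yT T) = yT T
    rw [ActKer.mul_smul, hh, hg]
  one_mem' := ActKer.one_smul a _
  inv_mem' := by
    intro g hg
    change smul a g⁻¹ (yT T) = yT T
    have := inv_smul_smul a g (yT T)
    rw [hg] at this
    exact this

/-- restriction -/
noncomputable def resM {T₁ T₂ : Over X.left} (u : T₁ ⟶ T₂) : StabSub a T₂ →* StabSub a T₁ where
  toFun g := ⟨dnMap u ≫ g.1, by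
    change smul a (dnMap u ≫ g.1) (yT T₁) = yT T₁
    rw [← dnMap_yT u, ← comp_smul, g.2]⟩
  map_one' := Subtype.ext (MonObj.comp_one _)
  map_mul' g h := Subtype.ext (MonObj.comp_mul _ _ _)

/-- the presheaf of stabilizer groups -/
noncomputable def StabF : (Over X.left)ᵒᵖ ⥤ GrpCat.{u} where
  obj T := GrpCat.of (StabSub a T.unop)
  map u := GrpCat.ofHom (resM a u.unop)
  map_id T := by
    ext g
    change (dnMap (𝟙 T.unop) ≫ g.1).left = g.1.left
    rw [dnMap_id, Category.id_comp]
  map_comp u v := by
    ext g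
    change (dnMap (v.unop ≫ u.unop) ≫ g.1).left = (dnMap v.unop ≫ dnMap u.unop ≫ g.1).left
    rw [dnMap_comp, Category.assoc]

section rep

variable {a}

theorem gOf_aux {T : Over X.left} (t : T ⟶ Over.mk (pr a)) :
    (t.left ≫ pullback.fst (Psi a).left (Dl X).left ≫ (fst G X).left) ≫ G.hom =
      (dn T).hom := by
  have h1 : (fst G X).left ≫ G.hom = (snd G X).left ≫ X.hom :=
    (Over.w (fst G X)).trans (Over.w (snd G X)).symm
  have h2 : t.left ≫ pr a = T.hom := Over.w t
  change _ = T.hom ≫ X.hom
  rw [Category.assoc, Category.assoc, h1, ← Category.assoc (pullback.fst _ _), fst_snd_eq_pr,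
    ← Category.assoc, h2]

/-- the `G`-component of a point of the stabilizer -/
noncomputable def gOf {T : Over X.left} (t : T ⟶ Over.mk (pr a)) : dn T ⟶ G :=
  Over.homMk (t.left ≫ pullback.fst (Psi a).left (Dl X).left ≫ (fst G X).left) (gOf_aux t)

theorem lift_gOf_left {T : Over X.left} (t : T ⟶ Over.mk (pr a)) :
    (lift (gOf t) (yT T)).left = t.left ≫ pullback.fst (Psi a).left (Dl X).left := by
  have h2 : t.left ≫ pr a = T.hom := Over.w t
  let w : dn T ⟶ G ⊗ X := Over.homMk (t.left ≫ pullback.fst (Psi a).left (Dl X).left) (by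
    change _ = T.hom ≫ X.hom
    rw [← Over.w (snd G X), Category.assoc, ← Category.assoc (pullback.fst _ _), fst_snd_eq_pr,
      ← Category.assoc, h2])
  have e : w = lift (gOf t) (yT T) := by
    apply CartesianMonoidalCategory.hom_ext
    · rw [lift_fst]
      apply Over.OverMorphism.ext
      change (t.left ≫ pullback.fst _ _) ≫ (fst G X).left = _
      rw [Category.assoc]
      rfl
    · rw [lift_snd]
      apply Over.OverMorphism.ext
      change (t.left ≫ pullback.fst _ _) ≫ (snd G X).left = T.hom
      rw [Category.assoc, fst_snd_eq_pr, h2]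
  rw [← e]
  rfl

theorem gOf_mem {T : Over X.left} (t : T ⟶ Over.mk (pr a)) : gOf t ∈ StabSub a T := by
  change smul a (gOf t) (yT T) = yT T
  have h2 : t.left ≫ pr a = T.hom := Over.w t
  have h : lift (gOf t) (yT T) ≫ Psi a = yT T ≫ Dl X := by
    apply Over.OverMorphism.ext
    rw [Over.comp_left, lift_gOf_left, Category.assoc, pullback.condition, ← Category.assoc, h2]
    rfl
  rw [lift_Psi] at h
  have := congrArg (· ≫ fst X X) h
  simpa using this

theorem tOf_aux {T : Over X.left} (g : StabSub a T) :
    (lift g.1 (yT T)).left ≫ (Psi a).left = T.hom ≫ (Dl X).left := by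
  have hg : smul a g.1 (yT T) = yT T := g.2
  rw [← Over.comp_left, lift_Psi, hg]
  have : lift (yT T) (yT T) = yT T ≫ Dl X := by
    rw [comp_lift, Category.comp_id]
  rw [this]
  rfl

/-- the point of the stabilizer attached to a stabilizing point of `G` -/
noncomputable def tOf {T : Over X.left} (g : StabSub a T) : T ⟶ Over.mk (pr a) :=
  Over.homMk (pullback.lift (lift g.1 (yT T)).left T.hom (tOf_aux g))
    (pullback.lift_snd _ _ _)

theorem tOf_gOf {T : Over X.left} (t : T ⟶ Over.mk (pr a)) : tOf ⟨gOf t, gOf_mem t⟩ = t := by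
  apply Over.OverMorphism.ext
  apply pullback.hom_ext
  · change pullback.lift _ _ _ ≫ pullback.fst _ _ = _
    rw [pullback.lift_fst, lift_gOf_left]
  · change pullback.lift _ _ _ ≫ pullback.snd _ _ = _
    rw [pullback.lift_snd]
    exact (Over.w t).symm

theorem gOf_tOf {T : Over X.left} (g : StabSub a T) : gOf (tOf g) = g.1 := by
  apply Over.OverMorphism.ext
  change pullback.lift _ _ _ ≫ pullback.fst _ _ ≫ (fst G X).left = _
  rw [← Category.assoc, pullback.lift_fst, ← Over.comp_left, lift_fst]

variable (a) in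
/-- the stabilizer scheme represents the presheaf of stabilizer groups -/
noncomputable def rep : (StabF a ⋙ forget GrpCat).RepresentableBy (Over.mk (pr a)) where
  homEquiv {T} :=
    { toFun := fun t => ⟨gOf t, gOf_mem t⟩
      invFun := fun g => tOf g
      left_inv := fun t => tOf_gOf t
      right_inv := fun g => Subtype.ext (gOf_tOf g) }
  homEquiv_comp {T T'} u t := by
    apply Subtype.ext
    apply Over.OverMorphism.ext
    change (u ≫ t).left ≫ _ = u.left ≫ t.left ≫ _
    rw [Over.comp_left, Category.assoc]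

variable (a) in
/-- the group structure on the stabilizer scheme over `X` -/
@[instance_reducible]
noncomputable def grpSt : GrpObj (Over.mk (pr a)) :=
  GrpObj.ofRepresentableBy (Over.mk (pr a)) (StabF a) (rep a)

end rep

end Groth.Agent.Lib.Helper24.Stab
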