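import Groth.Agent.Lib.Helper24.Stab.Triv
import Groth.Agent.Lib.Helper24.HomogSep.Main
import Groth.Agent.Lib.Helper24.WeilExt.Local
import Groth.Agent.S0353

/-!
# Set-theoretically free ⟺ geometrically free (S18508)
-/

set_option autoImplicit false
universe u
open CategoryTheory MonoidalCategory CartesianMonoidalCategory MonObj GrpObj AlgebraicGeometry Limits
  Opposite

namespace Groth.Agent.Lib.Helper24.Stab

variable {k : Type u} [Field k] {G X : Over (Spec (CommRingCat.of k))} [GrpObj G]
  (a : AlgGrp.Action G X)

/-- finite étale case: the stabilizer scheme is unramified over `X` -/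
theorem formallyUnramified_pr [IsSeparated X.hom] [Etale G.hom] : FormallyUnramified (pr a) := by
  rw [← fst_snd_eq_pr]
  haveI : IsClosedImmersion (Dl X).left := by
    have : (Dl X).left = pullback.diagonal X.hom :=
      Groth.Agent.Lib.Helper24.HomogSep.diag_left_eq
    rw [this]
    infer_instance
  haveI : IsClosedImmersion (pullback.fst (Psi a).left (Dl X).left) := inferInstance
  haveI : Etale (snd G X).left := by
    have : (snd G X).left = pullback.snd G.hom X.hom := rfl
    rw [this]
    infer_instance
  exact MorphismProperty.comp_mem _ _ _ inferInstance inferInstance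

theorem isIso_fibre_of_isIso {Y Z : Scheme.{u}} (p : Y ⟶ Z) [IsIso p] (x : Z) :
    IsIso (p.fiberToSpecResidueField x) :=
  inferInstanceAs (IsIso (pullback.snd p (Z.fromSpecResidueField x)))

theorem fibres_of_univInj_etale [IsSeparated X.hom] [Etale G.hom]
    [LocallyOfFiniteType X.hom] [LocallyOfFiniteType G.hom]
    (h : UniversallyInjective (pr a)) (x : ↥X.left) :
    IsIso ((pr a).fiberToSpecResidueField x) := by
  haveI := formallyUnramified_pr a
  haveI : LocallyOfFiniteType (G ⊗ X).hom := by rw [Over.tensorObj_hom]; infer_instance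
  haveI : LocallyOfFiniteType (Psi a).left := by
    haveI : LocallyOfFiniteType ((Psi a).left ≫ (X ⊗ X).hom) := by
      rw [Over.w (Psi a)]; infer_instance
    exact locallyOfFiniteType_of_comp (Psi a).left (X ⊗ X).hom
  haveI : LocallyOfFiniteType (pr a) := inferInstance
  haveI : Surjective (pullback.diagonal (pr a)) :=
    (UniversallyInjective.iff_diagonal (pr a)).1 h
  haveI : IsOpenImmersion (pullback.diagonal (pr a)) := inferInstance
  haveI : IsIso (pullback.diagonal (pr a)) :=
    (isIso_iff_isOpenImmersion_and_surjective _).mpr ⟨inferInstance, inferInstance⟩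
  haveI : Mono (pr a) := (pullback.isIso_diagonal_iff (pr a)).mp inferInstance
  haveI := isIso_pr_of_mono a
  exact isIso_fibre_of_isIso (pr a) x

theorem fibres_of_univInj_charZero [CharZero k]
    [LocallyOfFiniteType X.hom] [LocallyOfFiniteType G.hom]
    (h : UniversallyInjective (pr a)) (x : ↥X.left) :
    IsIso ((pr a).fiberToSpecResidueField x) := by
  haveI : LocallyOfFiniteType (G ⊗ X).hom := by rw [Over.tensorObj_hom]; infer_instance
  haveI : LocallyOfFiniteType (Psi a).left := by
    haveI : LocallyOfFiniteType ((Psi a).left ≫ (X ⊗ X).hom) := by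
      rw [Over.w (Psi a)]; infer_instance
    exact locallyOfFiniteType_of_comp (Psi a).left (X ⊗ X).hom
  haveI : LocallyOfFiniteType (pr a) := inferInstance
  set c := X.left.fromSpecResidueField x with hc
  change IsIso (pullback.snd (pr a) c)
  set q := pullback.snd (pr a) c with hq
  letI := grpSt a
  letI : GrpObj (Over.mk q) := Over.grpObjMkPullbackSnd
  -- characteristic zero of the residue field
  let φ : CommRingCat.of k ⟶ X.left.residueField x := Spec.preimage (c ≫ X.hom)
  haveI : CharZero (X.left.residueField x) :=
    charZero_of_injective_ringHom (f := φ.hom) (RingHom.injective _)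
  haveI : LocallyOfFiniteType q := inferInstance
  haveI : LocallyOfFiniteType (Over.mk q).hom := ‹LocallyOfFiniteType q›
  haveI hsm : Smooth q := Groth.Agent.S0353.result (X.left.residueField x) (Over.mk q)
  haveI : IsReduced (pullback (pr a) c) :=
    Groth.Agent.Lib.Helper24.WeilExt.isReduced_of_smooth (R := X.left.residueField x) q
  let ε : Spec (X.left.residueField x) ⟶ pullback (pr a) c := (η[Over.mk q]).left
  have hε : ε ≫ q = 𝟙 _ := Over.w (η[Over.mk q])
  haveI : IsClosedImmersion ε := isClosedImmersion_of_comp_eq_id q ε hε
  haveI : UniversallyInjective q :=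
    UniversallyInjective.isStableUnderBaseChange.{u}.of_isPullback
      (IsPullback.of_hasPullback (pr a) c) h
  haveI : Surjective ε := by
    constructor
    intro z
    obtain ⟨w⟩ : Nonempty ↥(Spec (X.left.residueField x)) := inferInstance
    refine ⟨w, ?_⟩
    apply q.injective
    exact Subsingleton.elim _ _
  haveI : IsIso ε := isIso_of_isClosedImmersion_of_surjective ε
  haveI : IsIso (ε ≫ q) := by rw [hε]; infer_instance
  exact IsIso.of_isIso_comp_left ε q

theorem main [IsSeparated X.hom] [LocallyOfFiniteType X.hom] [LocallyOfFiniteType G.hom]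
    (hG : CharZero k ∨ (IsFinite G.hom ∧ Etale G.hom)) :
    UniversallyInjective (pr a) ↔ ∀ x : ↥X.left, IsIso ((pr a).fiberToSpecResidueField x) := by
  constructor
  · intro h x
    rcases hG with hG | ⟨-, hG⟩
    · exact fibres_of_univInj_charZero a h x
    · exact fibres_of_univInj_etale a h x
  · intro h
    exact universallyInjective_of_fibres (pr a) h

end Groth.Agent.Lib.Helper24.Stab
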