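import Groth.Agent.Lib.Helper24.Stab.Grp
import Groth.Agent.Lib.Helper24.FibHom.Props

/-!
# Trivial stabilizers: the stabilizer scheme is `X`, and the graph morphism is a monomorphism
-/

set_option autoImplicit false
universe u
open CategoryTheory MonoidalCategory CartesianMonoidalCategory MonObj GrpObj AlgebraicGeometry Limits
  Opposite

namespace Groth.Agent.Lib.Helper24.Stab

open Groth.Agent.Lib.Helper4.ActShear Groth.Agent.Lib.Helper24.ActKer

section gen

variable {Y Z : Scheme.{u}} (p : Y ⟶ Z)

/-- a morphism all of whose fibres are trivial is universally injective -/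
theorem universallyInjective_of_fibres
    (h : ∀ x : Z, IsIso (p.fiberToSpecResidueField x)) : UniversallyInjective p := by
  rw [((tfae_universallyInjective p).out 0 1 :)]
  intro K _ g₁ g₂ (hg : g₁ ≫ p = g₂ ≫ p)
  let v : Spec (.of K) ⟶ Z := g₁ ≫ p
  let x : Z := v (IsLocalRing.closedPoint K)
  let c' : Spec (.of K) ⟶ Spec (Z.residueField x) :=
    Spec.map (Scheme.descResidueField (Scheme.stalkClosedPointTo v))
  have hc : c' ≫ Z.fromSpecResidueField x = v :=
    Scheme.descResidueField_stalkClosedPointTo_fromSpecResidueField K Z v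
  let b₁ : Spec (.of K) ⟶ pullback p (Z.fromSpecResidueField x) :=
    pullback.lift g₁ c' (by rw [hc])
  let b₂ : Spec (.of K) ⟶ pullback p (Z.fromSpecResidueField x) :=
    pullback.lift g₂ c' (by rw [hc, ← hg])
  haveI : IsIso (pullback.snd p (Z.fromSpecResidueField x)) := h x
  have hb : b₁ = b₂ := by
    rw [← cancel_mono (pullback.snd p (Z.fromSpecResidueField x))]
    rw [pullback.lift_snd, pullback.lift_snd]
  have h1 : b₁ ≫ pullback.fst _ _ = g₁ := pullback.lift_fst _ _ _
  have h2 : b₂ ≫ pullback.fst _ _ = g₂ := pullback.lift_fst _ _ _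
  rw [← h1, ← h2, hb]

set_option backward.isDefEq.respectTransparency.types false in
/-- a morphism locally of finite type all of whose fibres are trivial is unramified -/
theorem formallyUnramified_of_fibres [LocallyOfFiniteType p]
    (h : ∀ x : Z, IsIso (p.fiberToSpecResidueField x)) : FormallyUnramified p := by
  have hpt : ∀ z : Y, ∃ W : Y.Opens, z ∈ W ∧ FormallyUnramified (W.ι ≫ p) := by
    intro z
    haveI := h (p.base z)
    exact Groth.Agent.Lib.Helper24.FibHom.fc_unramified p z (p.base z) rfl inferInstance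
  choose W hW1 hW2 using hpt
  refine IsZariskiLocalAtSource.of_iSup_eq_top (P := @FormallyUnramified) W ?_ hW2
  rw [eq_top_iff]
  intro z _
  exact TopologicalSpace.Opens.mem_iSup.mpr ⟨z, hW1 z⟩

/-- a morphism locally of finite type all of whose fibres are trivial is a monomorphism -/
theorem mono_of_fibres [LocallyOfFiniteType p]
    (h : ∀ x : Z, IsIso (p.fiberToSpecResidueField x)) : Mono p := by
  haveI := formallyUnramified_of_fibres p h
  haveI : UniversallyInjective p := universallyInjective_of_fibres p h
  haveI : Surjective (pullback.diagonal p) := (UniversallyInjective.iff_diagonal p).1 inferInstance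
  haveI : IsOpenImmersion (pullback.diagonal p) := inferInstance
  haveI : IsIso (pullback.diagonal p) :=
    (isIso_iff_isOpenImmersion_and_surjective _).mpr ⟨inferInstance, inferInstance⟩
  exact (pullback.isIso_diagonal_iff p).mp inferInstance

end gen

variable {S : Scheme.{u}} {G X : Over S} [GrpObj G] (a : AlgGrp.Action G X)

/-- the unit section of the stabilizer scheme -/
noncomputable def unitSec : X.left ⟶ St a :=
  letI := grpSt a
  (η[Over.mk (pr a)]).left

theorem unitSec_pr : unitSec a ≫ pr a = 𝟙 _ := by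
  letI := grpSt a
  have := Over.w (η[Over.mk (pr a)])
  exact this

theorem isIso_pr_of_mono [Mono (pr a)] : IsIso (pr a) := by
  haveI : IsSplitEpi (pr a) := ⟨⟨unitSec a, unitSec_pr a⟩⟩
  exact isIso_of_mono_of_isSplitEpi _

/-- if the stabilizer scheme is trivial, the graph morphism is a monomorphism -/
theorem mono_Psi_of_mono_pr [Mono (pr a)] : Mono (Psi a) := by
  constructor
  intro T t₁ t₂ ht
  set g₁ := t₁ ≫ fst G X
  set g₂ := t₂ ≫ fst G X
  set x₁ := t₁ ≫ snd G X
  set x₂ := t₂ ≫ snd G X
  have e1 : t₁ = lift g₁ x₁ := by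
    apply CartesianMonoidalCategory.hom_ext <;> simp [g₁, x₁]
  have e2 : t₂ = lift g₂ x₂ := by
    apply CartesianMonoidalCategory.hom_ext <;> simp [g₂, x₂]
  rw [e1, e2, lift_Psi, lift_Psi] at ht
  have hx : x₁ = x₂ := by
    have := congrArg (· ≫ snd X X) ht
    simpa using this
  have hs : smul a g₁ x₁ = smul a g₂ x₁ := by
    have := congrArg (· ≫ fst X X) ht
    simp only [lift_fst] at this
    rw [this, hx]
  -- the point `h = g₂⁻¹ g₁` stabilizes `x₁`
  have hh : smul a (g₂⁻¹ * g₁) x₁ = x₁ := by
    rw [ActKer.mul_smul, hs]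
    exact inv_smul_smul a g₂ x₁
  have k1 : (lift (g₂⁻¹ * g₁) x₁).left ≫ (Psi a).left = x₁.left ≫ (Dl X).left := by
    rw [← Over.comp_left, ← Over.comp_left, lift_Psi, hh, comp_lift, Category.comp_id]
  have k2 : (lift (1 : T ⟶ G) x₁).left ≫ (Psi a).left = x₁.left ≫ (Dl X).left := by
    rw [← Over.comp_left, ← Over.comp_left, lift_Psi, ActKer.one_smul, comp_lift, Category.comp_id]
  have k3 : pullback.lift _ _ k1 = pullback.lift _ _ k2 := by
    rw [← cancel_mono (pr a), pullback.lift_snd, pullback.lift_snd]
  have k4 := congrArg (· ≫ pullback.fst _ _) k3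
  simp only [pullback.lift_fst] at k4
  have k5 : lift (g₂⁻¹ * g₁) x₁ = lift (1 : T ⟶ G) x₁ := Over.OverMorphism.ext k4
  have k6 : g₂⁻¹ * g₁ = 1 := by
    have := congrArg (· ≫ fst G X) k5
    simpa using this
  have k7 : g₁ = g₂ := by
    have : g₁ = g₂ * (g₂⁻¹ * g₁) := by group
    rw [this, k6, _root_.mul_one]
  rw [e1, e2, k7, hx]

/-- S18503: a proper action with trivial stabilizers is free -/
theorem isClosedImmersion_Psi (hp : IsProper (Psi a).left)
    (htriv : ∀ x : ↥X.left, IsIso ((pr a).fiberToSpecResidueField x)) :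
    IsClosedImmersion (Psi a).left := by
  haveI := hp
  haveI : LocallyOfFiniteType (pr a) := inferInstance
  haveI : Mono (pr a) := mono_of_fibres (pr a) htriv
  haveI : Mono (Psi a) := mono_Psi_of_mono_pr a
  haveI : Mono (Psi a).left := inferInstance
  exact (IsClosedImmersion.iff_isProper_and_mono _).mpr ⟨inferInstance, inferInstance⟩

end Groth.Agent.Lib.Helper24.Stab
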